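import Mathlib.Algebra.Polynomial.Derivative
import Mathlib.Algebra.Polynomial.FieldDivision
import Mathlib.Data.Nat.Choose.Basic
import Mathlib.Tactic.Ring
import Mathlib.Tactic.LinearCombination

/-!
# Roots of a binomial sum are simple away from 0 and 1
-/

open Polynomial

namespace Groth.Agent.Wronsk26

variable {k : Type*} [Field k] [CharZero k]

theorem all_iterate_zero (c : k) (hc0 : c ≠ 0) (hc1 : c ≠ 1) :
    ∀ (r : ℕ) (Q : k[X]) (a₀ a₁ b : k),
      X * (1 - X) * derivative (derivative Q) = (C a₀ + C a₁ * X) * derivative Q + C b * Q →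
      Q.IsRoot c → (derivative Q).IsRoot c → (derivative^[r] Q).IsRoot c
  | 0, _, _, _, _, _, h0, _ => h0
  | r + 1, Q, a₀, a₁, b, h, h0, h1 => by
    rw [Function.iterate_succ, Function.comp_apply]
    refine all_iterate_zero c hc0 hc1 r _ (a₀ - 1) (a₁ + 2) (a₁ + b) ?_ h1 ?_
    · have e := congrArg derivative h
      simp only [derivative_mul, derivative_sub, derivative_one, derivative_X, derivative_add,
        derivative_C] at e
      simp only [map_sub, map_add, map_one, map_ofNat]
      linear_combination e
    · have e := congrArg (eval c) h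
      simp only [eval_mul, eval_sub, eval_add, eval_X, eval_one, eval_C, IsRoot.def] at e h0 h1 ⊢
      rw [h0, h1, mul_zero, mul_zero, add_zero] at e
      exact (mul_eq_zero.mp e).resolve_left (mul_ne_zero hc0 (sub_ne_zero.mpr hc1.symm))

theorem rootMultiplicity_le_one (Q : k[X]) (a₀ a₁ b : k)
    (h : X * (1 - X) * derivative (derivative Q) = (C a₀ + C a₁ * X) * derivative Q + C b * Q)
    (c : k) (hc0 : c ≠ 0) (hc1 : c ≠ 1) : Q.rootMultiplicity c ≤ 1 := by
  by_contra hlt
  push Not at hlt
  have hQ : Q ≠ 0 := fun e => by simp [e] at hlt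
  have h2 := (lt_rootMultiplicity_iff_isRoot_iterate_derivative hQ (n := 1)).mp hlt
  have hall : ∀ r, (derivative^[r] Q).IsRoot c := fun r =>
    all_iterate_zero c hc0 hc1 r Q a₀ a₁ b h (h2 0 zero_le_one) (h2 1 le_rfl)
  have := (lt_rootMultiplicity_iff_isRoot_iterate_derivative hQ (n := Q.natDegree) (t := c)).mpr
    fun m _ => hall m
  have h3 := natDegree_le_of_dvd (pow_rootMultiplicity_dvd Q c) hQ
  rw [natDegree_pow, natDegree_X_sub_C, mul_one] at h3
  omega

theorem binomialSum (i j n : ℕ) (c : k) (hc0 : c ≠ 0) (hc1 : c ≠ 1) :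
    rootMultiplicity c
      (∑ l ∈ Finset.range (n + 1),
        C (((i.choose l) * (j.choose (n - l)) : ℕ) : k) * X ^ (n - l)) ≤ 1 := by
  set P := ∑ l ∈ Finset.range (n + 1),
    C (((i.choose l) * (j.choose (n - l)) : ℕ) : k) * X ^ (n - l) with hP
  have hc : ∀ m, P.coeff m =
      if m ≤ n then ((i.choose (n - m) * j.choose m : ℕ) : k) else 0 := by
    intro m
    rw [hP, finsetSum_coeff]
    simp only [coeff_C_mul, coeff_X_pow, mul_ite, mul_one, mul_zero]
    by_cases hm : m ≤ n
    · rw [if_pos hm, Finset.sum_eq_single (n - m), if_pos (by omega),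
        show n - (n - m) = m by omega]
      · intro l hl hne
        rw [Finset.mem_range] at hl
        rw [if_neg (by omega)]
      · intro h; exact absurd (Finset.mem_range.mpr (by omega)) h
    · rw [if_neg hm]
      exact Finset.sum_eq_zero fun l _ => if_neg (by omega)
  have rec_ : ∀ m : ℕ, ((m : k) + 1) * ((m : k) + 1 + i - n) * P.coeff (m + 1) =
      ((j : k) - m) * ((n : k) - m) * P.coeff m := by
    intro m
    rw [hc, hc]
    rcases lt_trichotomy m n with hm | hm | hm
    · rw [if_pos (by omega), if_pos hm.le]
      obtain ⟨q, hq⟩ : ∃ q, n = m + q + 1 := ⟨n - m - 1, by omega⟩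
      subst hq
      rw [show m + q + 1 - (m + 1) = q by omega, show m + q + 1 - m = q + 1 by omega]
      have e1 : ((m : k) + 1) * (j.choose (m + 1) : k) = ((j : k) - m) * j.choose m := by
        rcases le_or_gt m j with h | h
        · have := congrArg (Nat.cast (R := k)) (Nat.choose_succ_right_eq j m)
          push_cast [Nat.cast_sub h] at this
          linear_combination this
        · simp [Nat.choose_eq_zero_of_lt h, Nat.choose_eq_zero_of_lt (show j < m + 1 by omega)]
      have e2 : ((q : k) + 1) * (i.choose (q + 1) : k) = ((i : k) - q) * i.choose q := by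
        rcases le_or_gt q i with h | h
        · have := congrArg (Nat.cast (R := k)) (Nat.choose_succ_right_eq i q)
          push_cast [Nat.cast_sub h] at this
          linear_combination this
        · simp [Nat.choose_eq_zero_of_lt h, Nat.choose_eq_zero_of_lt (show i < q + 1 by omega)]
      push_cast
      linear_combination ((i : k) - q) * (i.choose q : k) * e1 -
        ((j : k) - m) * (j.choose m : k) * e2
    · subst hm
      rw [if_neg (by omega)]
      ring
    · rw [if_neg (by omega), if_neg (by omega)]
      ring
  refine rootMultiplicity_le_one P (-(1 + i - n)) (1 - j - n) ((j : k) * n) ?_ c hc0 hc1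
  ext m
  rw [show X * (1 - X) * derivative (derivative P) = X * derivative (derivative P)
    - X * (X * derivative (derivative P)) by ring,
    show (C (-(1 + (i : k) - n)) + C (1 - (j : k) - n) * X) * derivative P
      = C (-(1 + (i : k) - n)) * derivative P + C (1 - (j : k) - n) * (X * derivative P) by ring]
  have hr := rec_ m
  rcases m with _ | _ | m <;>
    simp only [coeff_sub, coeff_add, coeff_C_mul, coeff_derivative, coeff_X_mul_zero, coeff_X_mul,
      Nat.cast_zero, Nat.cast_add, Nat.cast_one] at hr ⊢ <;>
    linear_combination hr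

end Groth.Agent.Wronsk26
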